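import Cfsg.Agent.H634.SdDef

/-!
# S4579, R3: a linear character of a Sylow `2`-subgroup trivial on `P ∩ N` comes from `G / N`
-/

set_option autoImplicit false

open Cfsg

namespace Cfsg.Agent.H388.Sd

open Cfsg.Agent.H634.Sd

universe u

variable {G : Type u} [Group G] [Finite G]

theorem factor_quot [Fact (Nat.Prime 2)] (N : Subgroup G) [N.Normal] (P : Sylow 2 G)
    (f : (P : Subgroup G) →* ℂˣ) (hf : ∀ x : (P : Subgroup G), (x : G) ∈ N → f x = 1)
    (hx : ∃ x, f x ^ 2 ≠ 1) : NonElem (G ⧸ N) := by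
  obtain ⟨x, hx⟩ := hx
  have hπ : Function.Surjective (QuotientGroup.mk' N) := QuotientGroup.mk'_surjective N
  let Q : Sylow 2 (G ⧸ N) := P.mapSurjective hπ
  have hQ : (Q : Subgroup (G ⧸ N)) = (P : Subgroup G).map (QuotientGroup.mk' N) := rfl
  let φ : (P : Subgroup G) →* (Q : Subgroup (G ⧸ N)) := (QuotientGroup.mk' N).subgroupMap (P : Subgroup G)
  have hφ : Function.Surjective φ := (QuotientGroup.mk' N).subgroupMap_surjective (P : Subgroup G)
  have hker : φ.ker ≤ f.ker := by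
    intro y hy
    rw [MonoidHom.mem_ker] at hy ⊢
    apply hf
    have h1 : QuotientGroup.mk' N (y : G) = 1 := congrArg Subtype.val hy
    exact (QuotientGroup.eq_one_iff _).1 h1
  let g : (Q : Subgroup (G ⧸ N)) →* ℂˣ := φ.liftOfSurjective hφ ⟨f, hker⟩
  have hg : ∀ y, g (φ y) = f y := fun y =>
    MonoidHom.liftOfRightInverse_comp_apply φ _ (Function.rightInverse_surjInv hφ) ⟨f, hker⟩ y
  exact ⟨Q, g, φ x, by rw [hg]; exact hx⟩

end Cfsg.Agent.H388.Sd
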